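import Groth.Agent.Variety.K753.Alt
import Groth.Agent.S0819
import Groth.Agent.VarietyB.HHPush

/-!
# Devissage: Euler characteristics of coherent modules and the index
-/

set_option autoImplicit false
universe u

open CategoryTheory CategoryTheory.Limits AlgebraicGeometry TopologicalSpace Opposite

namespace K753.EulerSat

open Groth.Agent K753.IdxSat K753.Alt Groth.Agent.Ega3B.Devissage

/-- Euler characteristics of coherent modules supported in a closed subset `T` lie in the saturation of the subgroup
generated by the degrees of the closed points in `T`. -/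
theorem euler_mem_sat (R : Type u) [CommRing R] [IsDomain R] [IsDiscreteValuationRing R]
    (h84 : Prop84 R) (halt : AltHyp R) (X : Scheme.{u}) [X.Over (Spec (CommRingCat.of (FractionRing R)))]
    [IsProper (X ↘ Spec (CommRingCat.of (FractionRing R)))] (T : Closeds X) (E : X.Modules) (hE : Coh.IsCoh E)
    (hs : CohB1.support E ⊆ T) :
    Curv2.euler (FractionRing R) X E ∈
      sat (IsLocalRing.ResidueField R) (idxOn (X ↘ Spec (CommRingCat.of (FractionRing R))) T) := by
  have hNX : IsNoetherian X := Groth.Agent.VarietyA.GlobGen.isNoetherian_of_finiteType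
    (X ↘ (Spec (CommRingCat.of (FractionRing R))))
  induction T using WellFoundedLT.induction generalizing E with
  | _ T ih =>
    refine devissage (T : Set X) T.isClosed (fun E => Curv2.euler (FractionRing R) X E ∈
      sat (IsLocalRing.ResidueField R) (idxOn (X ↘ Spec (CommRingCat.of (FractionRing R))) T)) ?_ ?_ ?_ E hE hs
    · intro M hM
      rw [VarietyA.LerayEuler.euler_eq_zero_of_isZero (FractionRing R) X hM]
      exact AddSubgroup.zero_mem _
    · intro S hS h₁ h₂ h₃ _
      have e := Groth.Agent.S1524.result (FractionRing R) X S hS h₁ h₂ h₃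
      refine ⟨fun h h' => ?_, fun h h' => ?_, fun h h' => ?_⟩
      · dsimp only at h h' ⊢
        rw [e] at h'
        exact (AddSubgroup.add_mem_cancel_left _ h).mp h'
      · dsimp only at h h' ⊢
        rw [e]
        exact AddSubgroup.add_mem _ h h'
      · dsimp only at h h' ⊢
        rw [e] at h
        exact (AddSubgroup.add_mem_cancel_right _ h').mp h
    · intro y hy
      obtain ⟨Z, i, hi, hZ, hr⟩ := Groth.Agent.CohqB.DevGeom.exists_integral (closure {y})
        isClosed_closure isIrreducible_singleton.closure
      have hsub : Set.range i ⊆ (T : Set X) := by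
        rw [hr]
        exact closure_minimal (Set.singleton_subset_iff.mpr hy) T.isClosed
      have hyi : i (genericPoint Z) = y := by
        have h1 := Groth.Agent.CohqB.DevGeom.closure_image_genericPoint i
        rw [hr] at h1
        have h2 : i (genericPoint Z) ⤳ y := by
          rw [specializes_iff_mem_closure, h1]; exact subset_closure rfl
        have h3 : y ⤳ i (genericPoint Z) := by
          rw [specializes_iff_mem_closure, ← h1]; exact subset_closure rfl
        exact (h2.antisymm h3).eq
      have hcoh := Groth.Agent.CurvesB.UnitCoh.isCoh_structureModule Z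
      have hpush : ∀ M : Z.Modules, Coh.IsCoh M → Coh.IsCoh ((Coh.push i).obj M) := fun M hM =>
        ⟨Groth.Agent.Ega3B.DevQC.isQCoh_push i hM.1, Groth.Agent.CohqA.AffPush.isFT_push i _ hM.1 hM.2⟩
      refine ⟨(Coh.push i).obj (Coh.structureModule Z), hpush _ hcoh, ?_, ?_, ?_⟩
      · let _ : Z.Over (Spec (CommRingCat.of (FractionRing R))) :=
          ⟨i ≫ (X ↘ Spec (CommRingCat.of (FractionRing R)))⟩
        have hZp : IsProper (Z ↘ Spec (CommRingCat.of (FractionRing R))) :=
          inferInstanceAs (IsProper (i ≫ (X ↘ Spec (CommRingCat.of (FractionRing R)))))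
        rw [VarietyB.HHPush.euler_push i (FractionRing R) rfl _ hcoh.1]
        refine euler_structure_mem R h84 halt Z _ ?_ ?_
        · exact (indexSubgroup_le_idxOn i i.isClosedMap (X ↘ Spec (CommRingCat.of (FractionRing R))) T hsub).trans
            (le_sat _)
        · intro M hM hgen
          rw [← VarietyB.HHPush.euler_push i (FractionRing R) rfl _ hM.1]
          have hcl : IsClosed (CohB1.support ((Coh.push i).obj M)) := isClosed_support (hpush M hM)
          have hsupp : CohB1.support ((Coh.push i).obj M) ⊆ (T : Set X) :=
            (Groth.Agent.CohqB.DevSimple.support_push_subset_range i _).trans hsub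
          refine sat_mono (idxOn_mono _ hsupp) (ih ⟨_, hcl⟩ ?_ _ (hpush M hM) subset_rfl)
          refine lt_of_le_of_ne hsupp fun heq => hgen ?_
          have h1 : (CohB1.support ((Coh.push i).obj M) : Set X) = T := congr_arg (fun W : Closeds X => (W : Set X)) heq
          rw [Groth.Agent.CohqB.DevSimple.support_push] at h1
          have h2 : i (genericPoint Z) ∈ (T : Set X) := hsub ⟨_, rfl⟩
          rw [← h1] at h2
          obtain ⟨z, hz, hz'⟩ := h2
          rwa [i.isClosedEmbedding.injective hz'] at hz
      · exact (Groth.Agent.CohqB.DevSimple.support_push_subset_range i _).trans hr.subset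
      · rw [← hyi]
        exact Groth.Agent.S0819.isSimpleModule_push_structureModule i

end K753.EulerSat
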