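import Groth.Agent.Variety.K753.HypPt
import Mathlib.RingTheory.AdjoinRoot
import Mathlib.RingTheory.MvPolynomial.Homogeneous
import Mathlib.Algebra.Polynomial.BigOperators

/-!
# The degree of a form belongs to the subgroup of degrees of zeros
-/

set_option autoImplicit false
universe u

namespace K753.HypPt

open Polynomial K753.IdxSat

variable {K : Type u} [Field K]

theorem one_mem_zdeg {n : ℕ} (F : MvPolynomial (Fin (n + 1)) K) (x : Fin (n + 1) → K) (hx : x ≠ 0)
    (hF : MvPolynomial.aeval x F = 0) : (1 : ℤ) ∈ zdeg K F :=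
  AddSubgroup.subset_closure ⟨K, inferInstance, Algebra.id K, inferInstance, by simp, x, hx, hF⟩

theorem natDegree_mem_of_dvd {n : ℕ} (F : MvPolynomial (Fin (n + 1)) K) (v : Fin (n + 1) → K[X])
    (hv : v 0 = 1) (p : K[X]) (hp : Irreducible p) (hdvd : p ∣ MvPolynomial.aeval v F) :
    (p.natDegree : ℤ) ∈ zdeg K F := by
  have := Fact.mk hp
  have hfin : FiniteDimensional K (AdjoinRoot p) := (AdjoinRoot.powerBasis hp.ne_zero).finite
  refine AddSubgroup.subset_closure ⟨AdjoinRoot p, inferInstance, inferInstance, hfin, ?_,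
    fun i => Polynomial.aeval (AdjoinRoot.root p) (v i), ?_, ?_⟩
  · rw [(AdjoinRoot.powerBasis hp.ne_zero).finrank, AdjoinRoot.powerBasis_dim]
  · intro h
    have := congrFun h 0
    simp [hv] at this
  · obtain ⟨q, hq⟩ := hdvd
    have h1 : MvPolynomial.aeval (fun i => Polynomial.aeval (AdjoinRoot.root p) (v i)) F =
        Polynomial.aeval (AdjoinRoot.root p) (MvPolynomial.aeval v F) := by
      have := MvPolynomial.comp_aeval (R := K) (f := v) (Polynomial.aeval (R := K) (AdjoinRoot.root p))
      exact (AlgHom.congr_fun this F).symm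
    rw [h1, hq, map_mul, AdjoinRoot.aeval_eq, AdjoinRoot.mk_self, zero_mul]

theorem natDegree_mem {H : AddSubgroup ℤ} (g : K[X]) (hg : g ≠ 0)
    (h : ∀ p : K[X], Irreducible p → p ∣ g → (p.natDegree : ℤ) ∈ H) : (g.natDegree : ℤ) ∈ H := by
  induction hn : g.natDegree using Nat.strong_induction_on generalizing g with
  | _ n ih =>
    by_cases hu : IsUnit g
    · rw [Polynomial.natDegree_eq_zero_of_isUnit hu] at hn
      subst hn
      exact H.zero_mem
    · obtain ⟨p, hp, q, rfl⟩ := WfDvdMonoid.exists_irreducible_factor hu hg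
      have hq0 : q ≠ 0 := right_ne_zero_of_mul hg
      rw [Polynomial.natDegree_mul hp.ne_zero hq0] at hn
      have hpos := hp.natDegree_pos
      have h1 := ih q.natDegree (by omega) q hq0 (fun r hr hrq => h r hr (hrq.mul_left _)) rfl
      rw [← hn, Nat.cast_add]
      exact H.add_mem (h p hp (dvd_mul_right _ _)) h1

theorem degree_mem_zdeg {n : ℕ} (hn : 1 ≤ n) {d : ℕ} (F : MvPolynomial (Fin (n + 1)) K)
    (hF : F.IsHomogeneous d) : (d : ℤ) ∈ zdeg K F := by
  obtain ⟨n, rfl⟩ : ∃ n', n = n' + 1 := ⟨n - 1, by omega⟩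
  have h10 : (1 : Fin (n + 2)) ≠ 0 := by simp
  have hsum : ∀ m ∈ F.support, ∑ i, m i = d := by
    intro m hm
    have := hF (MvPolynomial.mem_support_iff.mp hm)
    rw [Finsupp.weight_apply, Finsupp.sum_fintype _ _ (by simp)] at this
    simpa using this
  have hm1 : ∀ m ∈ F.support, m ≠ Finsupp.single 1 d → ∃ i, i ≠ 1 ∧ m i ≠ 0 := by
    intro m hm hne
    by_contra hcon
    push Not at hcon
    apply hne
    have h1 : ∑ i, m i = m 1 := Finset.sum_eq_single 1 (fun i _ hi => hcon i hi) (by simp)
    rw [hsum m hm] at h1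
    ext i
    by_cases hi : i = 1
    · subst hi; simp [h1]
    · rw [hcon i hi, Finsupp.single_eq_of_ne hi]
  by_cases hc : F.coeff (Finsupp.single 1 d) = 0
  · -- `e₁` is a zero
    have h1 : (1 : ℤ) ∈ zdeg K F := by
      refine one_mem_zdeg F (Pi.single 1 1) (by simp) ?_
      rw [MvPolynomial.aeval_def, MvPolynomial.eval₂_eq']
      refine Finset.sum_eq_zero fun m hm => ?_
      obtain ⟨i, hi, hmi⟩ := hm1 m hm (by
        rintro rfl
        exact (MvPolynomial.mem_support_iff.mp hm) hc)
      rw [Finset.prod_eq_zero (Finset.mem_univ i), mul_zero]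
      rw [Pi.single_eq_of_ne hi, zero_pow hmi]
    simpa using mul_mem (d : ℤ) h1
  · let v : Fin (n + 2) → K[X] := fun i => if i = 0 then 1 else if i = 1 then X else 0
    have hv0 : v 0 = 1 := by simp [v]
    have hv1 : v 1 = X := by simp [v]
    have hvi : ∀ i, i ≠ 1 → (v i).natDegree = 0 := by
      intro i hi
      simp only [v]
      split_ifs <;> simp
    let g := MvPolynomial.aeval v F
    have hg : g = ∑ m ∈ F.support, C (F.coeff m) * ∏ i, v i ^ m i := by
      change MvPolynomial.aeval v F = _
      rw [MvPolynomial.aeval_def, MvPolynomial.eval₂_eq']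
      rfl
    have hdeg : ∀ m : Fin (n + 2) →₀ ℕ, (C (F.coeff m) * ∏ i, v i ^ m i).natDegree ≤ m 1 := by
      intro m
      refine (Polynomial.natDegree_C_mul_le _ _).trans ((Polynomial.natDegree_prod_le _ _).trans ?_)
      refine (Finset.sum_le_sum (g := fun i => if i = 1 then m 1 else 0) fun i _ => ?_).trans ?_
      · change (v i ^ m i).natDegree ≤ if i = 1 then m 1 else 0
        refine (Polynomial.natDegree_pow_le).trans ?_
        split_ifs with hi
        · subst hi; rw [hv1, natDegree_X, mul_one]
        · rw [hvi i hi, mul_zero]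
      · simp
    have hmle : ∀ m ∈ F.support, m 1 ≤ d := by
      intro m hm
      rw [← hsum m hm]
      exact Finset.single_le_sum (fun i _ => Nat.zero_le _) (Finset.mem_univ 1)
    have hcoeff : g.coeff d = F.coeff (Finsupp.single 1 d) := by
      rw [hg, Polynomial.finsetSum_coeff, Finset.sum_eq_single (Finsupp.single 1 d)]
      · have : ∏ i, v i ^ (Finsupp.single (1 : Fin (n + 2)) d) i = X ^ d := by
          rw [Finset.prod_eq_single 1]
          · rw [hv1, Finsupp.single_eq_same]
          · intro i _ hi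
            rw [Finsupp.single_eq_of_ne hi, pow_zero]
          · simp
        rw [this]
        simp
      · intro m hm hne
        refine Polynomial.coeff_eq_zero_of_natDegree_lt ((hdeg m).trans_lt ?_)
        obtain ⟨i, hi, hmi⟩ := hm1 m hm hne
        have h2 : m 1 + m i ≤ ∑ j, m j := by
          rw [← Finset.sum_pair (f := fun j => m j) hi.symm]
          exact Finset.sum_le_sum_of_subset (Finset.subset_univ _)
        rw [hsum m hm] at h2
        omega
      · intro hm
        rw [MvPolynomial.notMem_support_iff.mp hm]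
        simp
    have hgd : g.natDegree = d := by
      refine le_antisymm ?_ (Polynomial.le_natDegree_of_ne_zero (by rwa [hcoeff]))
      rw [hg]
      exact Polynomial.natDegree_sum_le_of_forall_le _ _ fun m hm => (hdeg m).trans (hmle m hm)
    have hg0 : g ≠ 0 := by
      intro h0
      rw [h0, coeff_zero] at hcoeff
      exact hc hcoeff.symm
    rw [← hgd]
    exact natDegree_mem g hg0 fun p hp hdvd => natDegree_mem_of_dvd F v hv0 p hp hdvd

end K753.HypPt
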