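import Groth.Agent.Variety.K753.Sat
import Mathlib.Data.Nat.Choose.Lucas
import Mathlib.Data.Nat.Choose.Vandermonde
import Mathlib.Data.Nat.Factorization.Basic

/-!
# Arithmetic of the index of hypersurfaces
-/

set_option autoImplicit false
universe u v

namespace K753.GcdBinom

open K753.IdxSat Finset

/-- Finite differences: a subgroup containing all values of `t ↦ Σ_{i<s} C(d,i+1) C(t,s-1-i)` contains
the coefficients. -/
theorem choose_mem_of_sum (J : AddSubgroup ℤ) (d T : ℕ) (s : ℕ)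
    (h : ∀ t, T ≤ t → (∑ i ∈ range s, (d.choose (i + 1) : ℤ) * (t.choose (s - 1 - i) : ℤ)) ∈ J) :
    ∀ i, i < s → (d.choose (i + 1) : ℤ) ∈ J := by
  induction s with
  | zero => intro i hi; omega
  | succ s ih =>
    have h1 : ∀ i, i < s → (d.choose (i + 1) : ℤ) ∈ J := by
      refine ih fun t ht => ?_
      have e : (∑ i ∈ range (s + 1), (d.choose (i + 1) : ℤ) * ((t + 1).choose (s + 1 - 1 - i) : ℤ)) -
          (∑ i ∈ range (s + 1), (d.choose (i + 1) : ℤ) * (t.choose (s + 1 - 1 - i) : ℤ)) =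
          ∑ i ∈ range s, (d.choose (i + 1) : ℤ) * (t.choose (s - 1 - i) : ℤ) := by
        rw [← Finset.sum_sub_distrib, Finset.sum_range_succ]
        have h0 : (d.choose (s + 1) : ℤ) * ((t + 1).choose (s + 1 - 1 - s) : ℤ) -
            (d.choose (s + 1) : ℤ) * (t.choose (s + 1 - 1 - s) : ℤ) = 0 := by simp
        rw [h0, add_zero]
        refine Finset.sum_congr rfl fun i hi => ?_
        rw [Finset.mem_range] at hi
        obtain ⟨j, rfl⟩ : ∃ j, s = i + j + 1 := ⟨s - i - 1, by omega⟩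
        have e1 : i + j + 1 + 1 - 1 - i = j + 1 := by omega
        have e2 : i + j + 1 - 1 - i = j := by omega
        rw [e1, e2, Nat.choose_succ_succ]
        push_cast
        ring
      rw [← e]
      exact J.sub_mem (h (t + 1) (by omega)) (h t ht)
    intro i hi
    rcases Nat.lt_succ_iff_lt_or_eq.mp hi with hi | rfl
    · exact h1 i hi
    · have h2 := h T le_rfl
      rw [Finset.sum_range_succ] at h2
      have h3 : (∑ j ∈ range i, (d.choose (j + 1) : ℤ) * (T.choose (i + 1 - 1 - j) : ℤ)) ∈ J := by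
        refine J.sum_mem fun j hj => ?_
        rw [mul_comm]
        exact mul_mem _ (h1 j (Finset.mem_range.mp hj))
      have h4 := (AddSubgroup.add_mem_cancel_left J h3).mp h2
      simpa using h4

/-- The values of the Hilbert polynomial of a hypersurface generate the binomials `C(d,i)`, `1 ≤ i ≤ N`. -/
theorem choose_mem (J : AddSubgroup ℤ) (d N : ℕ)
    (h : ∀ t : ℕ, ((t + d + N).choose N : ℤ) - ((t + N).choose N : ℤ) ∈ J) (i : ℕ) (hi : 1 ≤ i) (hiN : i ≤ N) :
    (d.choose i : ℤ) ∈ J := by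
  obtain ⟨i, rfl⟩ : ∃ j, i = j + 1 := ⟨i - 1, by omega⟩
  refine choose_mem_of_sum J d N N (fun t ht => ?_) i (by omega)
  obtain ⟨t, rfl⟩ : ∃ t', t = t' + N := ⟨t - N, by omega⟩
  have e1 : (t + d + N).choose N = ∑ i ∈ range N, d.choose (i + 1) * (t + N).choose (N - 1 - i) +
      (t + N).choose N := by
    rw [show t + d + N = d + (t + N) by omega, Nat.add_choose_eq,
      Finset.Nat.sum_antidiagonal_eq_sum_range_succ_mk, Finset.sum_range_succ']
    simp only [Nat.choose_zero_right, one_mul, Nat.sub_zero]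
    congr 1
    refine Finset.sum_congr rfl fun i _ => ?_
    rw [show N - (i + 1) = N - 1 - i by omega]
  have e2 : (∑ i ∈ range N, (d.choose (i + 1) : ℤ) * ((t + N).choose (N - 1 - i) : ℤ)) =
      ((t + d + N).choose N : ℤ) - ((t + N).choose N : ℤ) := by
    rw [e1]
    push_cast
    ring
  rw [e2]
  exact h t

/-- `p` does not divide `C(p^a e - 1, p^a - 1)`. -/
theorem not_dvd_choose (p : ℕ) [hp : Fact p.Prime] (a e : ℕ) (he : 1 ≤ e) :
    ¬ p ∣ (p ^ a * e - 1).choose (p ^ a - 1) := by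
  induction a with
  | zero => simpa using hp.out.one_lt.ne'
  | succ a ih =>
    intro h
    apply ih
    have hp1 := hp.out.pos
    have h1 := Choose.choose_modEq_choose_mod_mul_choose_div_nat (p := p) (n := p ^ (a + 1) * e - 1)
      (k := p ^ (a + 1) - 1)
    have key : ∀ m : ℕ, 1 ≤ m → (p * m - 1) % p = p - 1 ∧ (p * m - 1) / p = m - 1 := by
      intro m hm
      obtain ⟨m, rfl⟩ : ∃ m', m = m' + 1 := ⟨m - 1, by omega⟩
      have e1 : p * (m + 1) - 1 = (p - 1) + p * m := by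
        rw [mul_add, mul_one]; omega
      rw [e1]
      constructor
      · rw [Nat.add_mul_mod_self_left, Nat.mod_eq_of_lt (by omega)]
      · rw [Nat.add_mul_div_left _ _ hp1, Nat.div_eq_of_lt (by omega)]; omega
    have hpa : 1 ≤ p ^ a := Nat.one_le_pow _ _ hp1
    have k1 := key (p ^ a * e) (Nat.mul_pos hpa he)
    have k2 := key (p ^ a) hpa
    have r1 : p ^ (a + 1) * e - 1 = p * (p ^ a * e) - 1 := by rw [pow_succ]; ring_nf
    have r2 : p ^ (a + 1) - 1 = p * p ^ a - 1 := by rw [pow_succ]; ring_nf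
    rw [r1, r2, k1.1, k1.2, k2.1, k2.2, Nat.choose_self, one_mul] at h1
    rw [r1, r2] at h
    exact (h1.dvd_iff dvd_rfl).mp h

/-- A common divisor of the `C(d,i)`, `1 ≤ i ≤ N`, divides `d / δ` for each divisor `δ ≤ N` of `d`. -/
theorem dvd_div (g d N δ : ℕ) (hd : 1 ≤ d) (hg : ∀ i, 1 ≤ i → i ≤ N → g ∣ d.choose i) (hδ : δ ∣ d)
    (hδ1 : 1 ≤ δ) (hδN : δ ≤ N) : g ∣ d / δ := by
  rw [Nat.dvd_iff_prime_pow_dvd_dvd]
  intro p k hp hk
  have := Fact.mk hp
  obtain ⟨a, δ', hpδ', hδ'⟩ := Nat.exists_eq_pow_mul_and_not_dvd (by omega : δ ≠ 0) p hp.ne_one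
  have hpa : 1 ≤ p ^ a := Nat.one_le_pow _ _ hp.pos
  have hpaN : p ^ a ≤ N := (Nat.le_of_dvd (by omega) ⟨δ', hδ'⟩).trans hδN
  have hdvd : p ^ a ∣ d := (Dvd.intro _ hδ'.symm).trans hδ
  obtain ⟨e, he⟩ := hdvd
  have he1 : 1 ≤ e := by
    rcases Nat.eq_zero_or_pos e with h | h
    · rw [h, mul_zero] at he; omega
    · exact h
  have h1 : p ^ k ∣ d.choose (p ^ a) := hk.trans (hg _ hpa hpaN)
  have h2 : d.choose (p ^ a) * p ^ a = d * (d - 1).choose (p ^ a - 1) := by
    have := Nat.add_one_mul_choose_eq (d - 1) (p ^ a - 1)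
    rw [Nat.sub_add_cancel hd, Nat.sub_add_cancel hpa] at this
    exact this.symm
  have h3 : p ^ (k + a) ∣ d * (d - 1).choose (p ^ a - 1) := by
    rw [← h2, pow_add]
    exact Nat.mul_dvd_mul h1 dvd_rfl
  have h4 : Nat.Coprime (p ^ (k + a)) ((d - 1).choose (p ^ a - 1)) := by
    refine Nat.Coprime.pow_left _ ((Nat.Prime.coprime_iff_not_dvd hp).mpr ?_)
    rw [he]
    exact not_dvd_choose p a e he1
  have h5 : p ^ (k + a) ∣ d := h4.dvd_of_dvd_mul_right h3
  have h6 : d = p ^ a * (δ' * (d / δ)) := by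
    have h7 : δ * (d / δ) = d := Nat.mul_div_cancel' hδ
    rw [← mul_assoc, ← hδ', h7]
  rw [h6, add_comm, pow_add] at h5
  have h7 : p ^ k ∣ δ' * (d / δ) := Nat.dvd_of_mul_dvd_mul_left (by omega) h5
  exact (Nat.Coprime.pow_left k ((Nat.Prime.coprime_iff_not_dvd hp).mpr hpδ')).dvd_of_dvd_mul_left h7

/-- The gcd of the `d/δ`. -/
def I (d N : ℕ) : ℕ := ((Finset.Icc 1 N).filter (fun δ => δ ∣ d)).gcd (fun δ => d / δ)

theorem I_mem (J : AddSubgroup ℤ) (d N : ℕ) (hd : 1 ≤ d)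
    (h : ∀ i, 1 ≤ i → i ≤ N → (d.choose i : ℤ) ∈ J) : (I d N : ℤ) ∈ J := by
  obtain ⟨g, hg⟩ := Int.subgroup_cyclic J
  have hgJ : (g.natAbs : ℤ) ∈ J := by
    have : g ∈ J := by rw [hg]; exact AddSubgroup.mem_closure_singleton_self g
    rcases Int.natAbs_eq g with h1 | h1
    · rwa [← h1]
    · have := J.neg_mem this
      rw [h1] at this
      simpa using this
  have hdvd : ∀ m : ℤ, m ∈ J → g ∣ m := by
    intro m hm
    rw [hg, AddSubgroup.mem_closure_singleton] at hm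
    obtain ⟨a, rfl⟩ := hm
    exact ⟨a, by rw [zsmul_eq_mul, mul_comm]; simp⟩
  have h1 : g.natAbs ∣ I d N := by
    refine Finset.dvd_gcd fun δ hδ => ?_
    rw [Finset.mem_filter, Finset.mem_Icc] at hδ
    exact dvd_div _ d N δ hd (fun i hi hiN => Int.natAbs_dvd_natAbs.mpr (hdvd _ (h i hi hiN))) hδ.2 hδ.1.1 hδ.1.2
  obtain ⟨m, hm⟩ := h1
  rw [hm, Nat.cast_mul, mul_comm]
  exact mul_mem _ hgJ

theorem I_mem_of_sat {κ : Type v} [Field κ] (H : AddSubgroup ℤ) (d N : ℕ) (hd : 1 ≤ d) (hN : 1 ≤ N)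
    (hdH : (d : ℤ) ∈ H) (hI : (I d N : ℤ) ∈ sat κ H)
    (hq : ∀ q : ℕ, q.Prime → (q : κ) = 0 → N < q) : (I d N : ℤ) ∈ H := by
  obtain ⟨c, hc, hcI⟩ := hI
  have hId : I d N ∣ d := by
    have := Finset.gcd_dvd (f := fun δ => d / δ)
      (show 1 ∈ (Finset.Icc 1 N).filter (fun δ => δ ∣ d) from
        Finset.mem_filter.mpr ⟨Finset.mem_Icc.mpr ⟨le_rfl, hN⟩, one_dvd _⟩)
    simpa [I] using this
  obtain ⟨e, he⟩ := hId
  have hI0 : 0 < I d N := by
    rcases Nat.eq_zero_or_pos (I d N) with h | h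
    · rw [h, zero_mul] at he; omega
    · exact h
  have hcop : Nat.Coprime c e := by
    rw [Nat.coprime_iff_gcd_eq_one]
    by_contra hne
    obtain ⟨q, hqp, hqd⟩ := Nat.exists_prime_and_dvd hne
    have hqc : q ∣ c := hqd.trans (Nat.gcd_dvd_left _ _)
    have hqe : q ∣ e := hqd.trans (Nat.gcd_dvd_right _ _)
    have hqN : N < q := hq q hqp (hc.2 q hqp hqc)
    have h1 : I d N * q ∣ I d N := by
      conv_rhs => rw [I]
      refine Finset.dvd_gcd fun δ hδ => ?_
      have h2 : I d N ∣ d / δ := Finset.gcd_dvd hδ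
      rw [Finset.mem_filter, Finset.mem_Icc] at hδ
      obtain ⟨m, hm⟩ := h2
      have h3 : d = δ * (I d N * m) := by rw [← hm, Nat.mul_div_cancel' hδ.2]
      have h4 : I d N * q ∣ δ * (I d N * m) := by
        rw [← h3]
        conv_rhs => rw [he]
        exact Nat.mul_dvd_mul dvd_rfl hqe
      have h5 : I d N * q ∣ I d N * (δ * m) := by
        rwa [show I d N * (δ * m) = δ * (I d N * m) by ring]
      have h6 : q ∣ δ * m := Nat.dvd_of_mul_dvd_mul_left hI0 h5
      have h7 : q ∣ m := by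
        rcases (hqp.dvd_mul).mp h6 with h | h
        · exact absurd (Nat.le_of_dvd (by omega) h) (by omega)
        · exact h
      rw [hm]
      exact Nat.mul_dvd_mul dvd_rfl h7
    have h2 : I d N * q ≤ I d N * 1 := by rw [mul_one]; exact Nat.le_of_dvd hI0 h1
    exact absurd (Nat.le_of_mul_le_mul_left h2 hI0) (not_le.mpr hqp.one_lt)
  have h8 := Nat.gcd_eq_gcd_ab c e
  rw [hcop] at h8
  have h9 : (I d N : ℤ) = Nat.gcdA c e * ((c : ℤ) * (I d N : ℤ)) + Nat.gcdB c e * (d : ℤ) := by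
    have : (d : ℤ) = (I d N : ℤ) * (e : ℤ) := by exact_mod_cast he
    rw [this]
    have h10 : (1 : ℤ) = (c : ℤ) * Nat.gcdA c e + (e : ℤ) * Nat.gcdB c e := by exact_mod_cast h8
    linear_combination (I d N : ℤ) * h10
  rw [h9]
  exact H.add_mem (mul_mem _ hcI) (mul_mem _ hdH)

end K753.GcdBinom
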