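import Groth.Agent.VarietyB.EulerBinom
import Groth.Agent.VBPn.K699.SerreSeq
import Groth.Agent.Ega3B.Devissage
import Groth.Agent.ProjDeg.K657.HilbCI

/-!
# Hilbert polynomials of hypersurfaces, as Euler characteristics of cokernels
-/

set_option autoImplicit false
universe u

open CategoryTheory CategoryTheory.Limits AlgebraicGeometry TopologicalSpace Opposite

namespace K753.HypEuler

open Groth.Agent Groth.Agent.CycB.StalkExact Groth.Agent.VarietyB

variable (k : Type u) [Field k] (n : ℕ)

theorem N_eq (t : ℕ) : EulerBinom.N n t = (t + n).choose n := by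
  rw [← EulerBinom.finrank_homogeneous ℚ n t, K657.HilbCI.finrank_homogeneous]

theorem euler_twist_choose (t : ℕ) :
    Curv2.euler k (CohB1.ProjSpace n k) (Twist.twistProjSpace n k (t : ℤ)) = ((t + n).choose n : ℤ) := by
  rw [EulerBinom.euler_twist, EulerBinom.c, if_pos (Int.natCast_nonneg t), Int.toNat_natCast, N_eq]

theorem surjective_stalk_mulMap {i : ℕ} (a : CohB1.polyGrading n k i) {m m' : ℤ} (h : m + i = m')
    (x : CohB1.ProjSpace n k) (hx : x ∈ Proj.basicOpen (CohB1.polyGrading n k) a.1) :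
    Function.Surjective (stalkLin (X := CohB1.ProjSpace n k)
      (TwistMul.mulMap (𝒜 := CohB1.polyGrading n k) a h) x) := by
  intro s
  obtain ⟨V, hV, s, rfl⟩ := TopCat.Presheaf.exists_germ_eq _ s
  let W : (CohB1.ProjSpace n k).Opens := V ⊓ Proj.basicOpen (CohB1.polyGrading n k) a.1
  have hW : x ∈ W := ⟨hV, hx⟩
  obtain ⟨t, ht⟩ := (TwistMul.mulMap_app_bijective (𝒜 := CohB1.polyGrading n k) a h W inf_le_right).2
    ((Scheme.Modules.presheaf (X := CohB1.ProjSpace n k) (Twist.twistProjSpace n k m')).map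
      (homOfLE (inf_le_left : W ≤ V)).op s)
  refine ⟨(Scheme.Modules.presheaf (X := CohB1.ProjSpace n k) (Twist.twistProjSpace n k m)).germ W x hW t, ?_⟩
  erw [stalkLin_germ, ht]
  exact TopCat.Presheaf.germ_res_apply _ (homOfLE (inf_le_left : W ≤ V)) x hW s

/-- The cokernel of multiplication by a form of degree `d`. -/
theorem exists_hyp {d : ℕ} (a : CohB1.polyGrading n k d) (ha : a.1 ≠ 0) (t : ℕ) :
    ∃ Q : (CohB1.ProjSpace n k).Modules, Coh.IsCoh Q ∧
      (∀ x : CohB1.ProjSpace n k, x ∈ CohB1.support Q → x ∉ Proj.basicOpen (CohB1.polyGrading n k) a.1) ∧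
      Curv2.euler k (CohB1.ProjSpace n k) Q = ((t + d + n).choose n : ℤ) - ((t + n).choose n : ℤ) := by
  have h : (t : ℤ) + (d : ℤ) = ((t + d : ℕ) : ℤ) := by push_cast; rfl
  let φ : Twist.twistProjSpace n k (t : ℤ) ⟶ Twist.twistProjSpace n k ((t + d : ℕ) : ℤ) :=
    TwistMul.mulMap (𝒜 := CohB1.polyGrading n k) a h
  have hmono : Mono φ := K699.SerreSeq.mono_mulMap n k a ha h
  have hcoh : ∀ m : ℤ, Coh.IsCoh (Twist.twistProjSpace n k m) := by
    intro m
    exact Gaga.H883.Serre.isCoh_O n k m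
  have hcok : Coh.IsCoh (cokernel φ) := Sga67.CohBasic.isCoh_cokernel φ (hcoh _).1 (hcoh _)
  refine ⟨cokernel φ, hcok, ?_, ?_⟩
  · intro x hx hx'
    exact Ega3B.Devissage.notMem_support_cokernel φ x (surjective_stalk_mulMap k n a h x hx') hx
  · have hS : (ShortComplex.mk φ (cokernel.π φ) (cokernel.condition φ)).ShortExact :=
      { exact := ShortComplex.exact_cokernel φ }
    have := S1524.result k (CohB1.ProjSpace n k) _ hS (hcoh _) (hcoh _) hcok
    dsimp only at this
    rw [euler_twist_choose, euler_twist_choose] at this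
    linarith

end K753.HypEuler
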