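import Groth.Agent.Variety.K753.EulerSat
import Groth.Agent.Variety.K753.HypEuler
import Groth.Agent.Variety.K753.DegMem
import Groth.Agent.Variety.K753.GcdBinom

/-!
# The index of a hypersurface over the fraction field of a Henselian discrete valuation ring
-/

set_option autoImplicit false
universe u

open CategoryTheory CategoryTheory.Limits AlgebraicGeometry TopologicalSpace Opposite

namespace K753.HypMain

open Groth.Agent K753.IdxSat K753.Alt K753.HypPt K753.GcdBinom

/-- Transport along an isomorphism of fields. -/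
theorem zdeg_map_le {K K' : Type u} [Field K] [Field K'] (e : K ≃+* K') {n : ℕ}
    (F : MvPolynomial (Fin (n + 1)) K) : zdeg K' (MvPolynomial.map (e : K →+* K') F) ≤ zdeg K F := by
  refine AddSubgroup.closure_mono ?_
  rintro m ⟨L, iL, iA, hfin, hm, x, hx, hx0⟩
  let A : Algebra K L := ((algebraMap K' L).comp (e : K →+* K')).toAlgebra
  have hrank : Module.finrank K L = Module.finrank K' L :=
    Algebra.finrank_eq_of_equiv_equiv e (RingEquiv.refl L) rfl
  have hpos : 0 < Module.finrank K L := by
    rw [hrank]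
    exact Module.finrank_pos
  refine ⟨L, iL, A, Module.finite_of_finrank_pos hpos, by rw [hm, hrank], x, hx, ?_⟩
  rw [← hx0, MvPolynomial.aeval_def, MvPolynomial.aeval_def, MvPolynomial.eval₂_map]
  rfl

/-- The values of the Hilbert polynomial. -/
theorem hilb_mem (R : Type u) [CommRing R] [IsDomain R] [IsDiscreteValuationRing R]
    (h84 : Prop84 R) (halt : AltHyp R) {d N : ℕ} (hd : 1 ≤ d)
    (F : MvPolynomial (Fin (N + 1)) (FractionRing R)) (hF : F.IsHomogeneous d) (hF0 : F ≠ 0) (t : ℕ) :
    ((t + d + N).choose N : ℤ) - ((t + N).choose N : ℤ) ∈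
      sat (IsLocalRing.ResidueField R) (zdeg (FractionRing R) F) := by
  obtain ⟨Q, hQ, hsupp, hχ⟩ := HypEuler.exists_hyp (FractionRing R) N
    (⟨F, hF⟩ : CohB1.polyGrading N (FractionRing R) d) hF0 t
  rw [← hχ]
  have hT : IsClosed (CohB1.support Q) := Ega3B.Devissage.isClosed_support hQ
  have h1 := EulerSat.euler_mem_sat R h84 halt (CohB1.ProjSpace N (FractionRing R)) ⟨_, hT⟩ Q hQ subset_rfl
  refine sat_mono ((AddSubgroup.closure_le _).mpr ?_) h1
  rintro _ ⟨x, ⟨hx, hxT⟩, rfl⟩
  exact residueDegree_mem N (FractionRing R) F hF hd x hx (hsupp x hxT)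

theorem main (R : Type u) [CommRing R] [IsDomain R] [IsDiscreteValuationRing R]
    (h84 : Prop84 R) (halt : AltHyp R) (K : Type u) [Field K] [Algebra R K] [IsFractionRing R K]
    (d N : ℕ) (hd : 1 ≤ d) (hN : 1 ≤ N) (F : MvPolynomial (Fin (N + 1)) K) (hF : F.IsHomogeneous d) (hF0 : F ≠ 0) :
    (I d N : ℤ) ∈ sat (IsLocalRing.ResidueField R) (zdeg K F) ∧
      ((∀ q : ℕ, q.Prime → (q : IsLocalRing.ResidueField R) = 0 → N < q) → (I d N : ℤ) ∈ zdeg K F) := by
  let e : K ≃+* FractionRing R := (FractionRing.algEquiv R K).symm.toRingEquiv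
  have h1 : (I d N : ℤ) ∈ sat (IsLocalRing.ResidueField R) (zdeg K F) := by
    refine sat_mono (zdeg_map_le e F) ?_
    refine I_mem _ d N hd fun i hi hiN => choose_mem _ d N (fun t => ?_) i hi hiN
    refine hilb_mem R h84 halt hd _ (hF.map _) ?_ t
    intro h0
    apply hF0
    have : MvPolynomial.map (e : K →+* FractionRing R) F = MvPolynomial.map (e : K →+* FractionRing R) 0 := by
      rw [h0, map_zero]
    exact MvPolynomial.map_injective _ e.injective this
  exact ⟨h1, fun hq => I_mem_of_sat _ d N hd hN (degree_mem_zdeg hN F hF) h1 hq⟩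

end K753.HypMain
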