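import Groth.Prelude.Def_Models
import Groth.Agent.Models.RMFlat2
import Groth.Agent.Dix.ContractSurf
import Groth.Agent.Cyc.K306.Fibre

/-!
# Generic fibres of alterations of models
-/

set_option autoImplicit false
universe u

open CategoryTheory CategoryTheory.Limits AlgebraicGeometry TopologicalSpace Opposite

namespace K753.GenFib

open Groth.Agent

theorem exists_generic_fibre (R : Type u) [CommRing R] [IsDomain R] [IsDiscreteValuationRing R]
    {𝒵 : Scheme.{u}} (p : 𝒵 ⟶ Spec (CommRingCat.of R)) [IsProper p] [IsIntegral 𝒵]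
    {Z : Scheme.{u}} [IsIntegral Z] (f : Z ⟶ Spec (CommRingCat.of (FractionRing R))) (j : Z ⟶ 𝒵)
    (hpb : IsPullback j f p (Spec.map (CommRingCat.ofHom (algebraMap R (FractionRing R)))))
    {Y : Scheme.{u}} (h : Y ⟶ 𝒵) [IsIntegral Y] (hreg : ∀ y : Y, IsRegularLocalRing (Y.presheaf.stalk y))
    [IsProper h] (hgen : h (genericPoint Y) = genericPoint 𝒵) :
    ∃ (W : Scheme.{u}) (g : W ⟶ Z) (_ : IsIntegral W), IsProper g ∧ Models.IsRegularScheme W ∧
      Models.IsRegularProperModel R Y (h ≫ p) W (g ≫ f) ∧ g (genericPoint W) = genericPoint Z ∧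
      g.residueDegree (genericPoint W) = h.residueDegree (genericPoint Y) := by
  let η := Spec.map (CommRingCat.ofHom (algebraMap R (FractionRing R)))
  have hopen : IsOpenImmersion η := Models.DVRGeneric.isOpenImmersion_generic R (FractionRing R)
  have hj : IsOpenImmersion j := MorphismProperty.of_isPullback hpb.flip hopen
  let W := pullback h j
  let i : W ⟶ Y := pullback.fst h j
  let g : W ⟶ Z := pullback.snd h j
  have hW : IsPullback i g h j := IsPullback.of_hasPullback h j
  have hsq : IsPullback i (g ≫ f) (h ≫ p) η := hW.paste_vert hpb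
  have hjg : j (genericPoint Z) = genericPoint 𝒵 := genericPoint_eq_of_isOpenImmersion j
  obtain ⟨w, hw1, -⟩ := Scheme.Pullback.exists_preimage_pullback (f := h) (g := j) (genericPoint Y)
    (genericPoint Z) (hgen.trans hjg.symm)
  have hne : Nonempty W := ⟨w⟩
  have hWint : IsIntegral W := isIntegral_of_isOpenImmersion i
  have hdom : IsDominant i := ⟨i.isOpenEmbedding.isOpen_range.dense (Set.range_nonempty _)⟩
  have hflat : Flat (i ≫ (h ≫ p)) := by
    rw [hsq.w]
    have : Flat (g ≫ f) := inferInstance
    infer_instance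
  have hflat' : Flat (h ≫ p) := Dix.ContractSurf.flat_of_dominant i (h ≫ p)
  have hgW : g (genericPoint W) = genericPoint Z := by
    apply j.isOpenEmbedding.injective
    have h1 : j (g (genericPoint W)) = h (i (genericPoint W)) := by
      rw [← Scheme.Hom.comp_apply, ← Scheme.Hom.comp_apply, hW.w]
    rw [h1, hjg, genericPoint_eq_of_isOpenImmersion i, hgen]
  refine ⟨W, g, hWint, inferInstance, ?_, ⟨⟨hflat', inferInstance, inferInstance, i, hsq⟩, inferInstance, hreg⟩,
    hgW, ?_⟩
  · intro w
    have := hreg (i w)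
    exact IsRegularLocalRing.of_ringEquiv (asIso (i.stalkMap w)).commRingCatIsoToRingEquiv
  · have h1 := CycB.Push.residueDegree_comp g j (genericPoint W)
    have h2 := CycB.Push.residueDegree_comp i h (genericPoint W)
    rw [CycB.DivNat.residueDegree_eq_one j, one_mul] at h1
    rw [CycB.DivNat.residueDegree_eq_one i, mul_one, genericPoint_eq_of_isOpenImmersion i] at h2
    rw [← h1, ← h2, hW.w]

end K753.GenFib
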