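import Groth.Agent.Variety.K753.EulerRk
import Groth.Agent.Variety.K753.GenFib

/-!
# The Euler characteristic of the structure sheaf of an integral scheme, by alterations
-/

set_option autoImplicit false
universe u

open CategoryTheory CategoryTheory.Limits AlgebraicGeometry TopologicalSpace Opposite

namespace K753.Alt

open Groth.Agent K753.IdxSat

/-- The statement of S17784 for a discrete valuation ring `R`. -/
def Prop84 (R : Type u) [CommRing R] [IsDomain R] [IsDiscreteValuationRing R] : Prop :=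
  ∀ (X : Scheme.{u}) [X.Over (Spec (CommRingCat.of (FractionRing R)))]
    [IsProper (X ↘ Spec (CommRingCat.of (FractionRing R)))] (_ : Models.IsRegularScheme X)
    (𝒳 : Scheme.{u}) (p : 𝒳 ⟶ Spec (CommRingCat.of R))
    (_ : Models.IsRegularProperModel R 𝒳 p X (X ↘ Spec (CommRingCat.of (FractionRing R)))),
    Curv2.euler (FractionRing R) X (Coh.structureModule X) ∈
      Curv2.indexSubgroup (X ↘ Spec (CommRingCat.of (FractionRing R)))

/-- The alteration hypothesis of S17786. -/
def AltHyp (R : Type u) [CommRing R] [IsDomain R] [IsDiscreteValuationRing R] : Prop :=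
  ∀ (ℓ : ℕ), ℓ.Prime → (ℓ : IsLocalRing.ResidueField R) ≠ 0 →
      ∀ (Z : Scheme.{u}) (q : Z ⟶ Spec (CommRingCat.of R)) [AlgebraicGeometry.IsIntegral Z] [IsProper q] [Flat q],
        ∃ (Y : Scheme.{u}) (h : Y ⟶ Z) (_ : AlgebraicGeometry.IsIntegral Y),
          (∀ y : Y, IsRegularLocalRing (Y.presheaf.stalk y)) ∧ IsProper h ∧ Surjective h ∧
          h.base (genericPoint Y) = genericPoint Z ∧
          h.residueDegree (genericPoint Y) ≠ 0 ∧ ¬ ℓ ∣ h.residueDegree (genericPoint Y)

theorem euler_structure_mem (R : Type u) [CommRing R] [IsDomain R] [IsDiscreteValuationRing R]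
    (h84 : Prop84 R) (halt : AltHyp R) (Z : Scheme.{u}) [Z.Over (Spec (CommRingCat.of (FractionRing R)))]
    [IsProper (Z ↘ Spec (CommRingCat.of (FractionRing R)))] [IsIntegral Z] (H : AddSubgroup ℤ)
    (hidx : Curv2.indexSubgroup (Z ↘ Spec (CommRingCat.of (FractionRing R))) ≤ sat (IsLocalRing.ResidueField R) H)
    (htors : ∀ M : Z.Modules, Coh.IsCoh M → genericPoint Z ∉ CohB1.support M →
      Curv2.euler (FractionRing R) Z M ∈ sat (IsLocalRing.ResidueField R) H) :
    Curv2.euler (FractionRing R) Z (Coh.structureModule Z) ∈ sat (IsLocalRing.ResidueField R) H := by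
  obtain ⟨𝒵, p, ⟨hflat, -, -, j, hpb⟩, hprop, hint⟩ := Models.RMFlat2.exists_proper_flat_model R
    (Z ↘ Spec (CommRingCat.of (FractionRing R)))
  refine mem_sat_of_forall_prime fun ℓ hℓ hℓ0 => ?_
  obtain ⟨Y, h, hYint, hreg, hhprop, -, hgen, hdeg, hndvd⟩ := halt ℓ hℓ hℓ0 𝒵 p
  obtain ⟨W, g, hWint, hgprop, hWreg, hmodel, hgW, hdegW⟩ :=
    GenFib.exists_generic_fibre R p (Z ↘ Spec (CommRingCat.of (FractionRing R))) j hpb h hreg hgen
  let _ : W.Over (Spec (CommRingCat.of (FractionRing R))) := ⟨g ≫ (Z ↘ Spec (CommRingCat.of (FractionRing R)))⟩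
  have hWp : IsProper (W ↘ Spec (CommRingCat.of (FractionRing R))) :=
    inferInstanceAs (IsProper (g ≫ (Z ↘ Spec (CommRingCat.of (FractionRing R)))))
  have h1 := h84 W hWreg Y (h ≫ p) hmodel
  have h2 : Curv2.euler (FractionRing R) W (Coh.structureModule W) ∈ sat (IsLocalRing.ResidueField R) H := by
    refine hidx ?_
    rw [← idxOn_univ]
    exact indexSubgroup_le_idxOn g g.isClosedMap (Z ↘ Spec (CommRingCat.of (FractionRing R))) Set.univ
      (Set.subset_univ _) h1
  have h3 := EulerRk.euler_sub_degree_mem (FractionRing R) g rfl hgW (by rw [hdegW]; exact hdeg) _ htors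
  refine ⟨h.residueDegree (genericPoint Y), hndvd, ?_⟩
  rw [← hdegW]
  have h4 := (sat (IsLocalRing.ResidueField R) H).sub_mem h2 h3
  rwa [sub_sub_cancel] at h4

end K753.Alt
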