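import Groth.Prelude.Def_W4c5delpairindexchiIndex
import Groth.Agent.CycB.Push
import Mathlib.GroupTheory.Archimedean
import Mathlib.RingTheory.Int.Basic

/-!
# Saturation of subgroups of `ℤ`, and index subgroups relative to a closed subset
-/

set_option autoImplicit false
universe u v
open CategoryTheory CategoryTheory.Limits AlgebraicGeometry

namespace K753.IdxSat

/-! ### Saturation -/

/-- `c ≥ 1`, all of whose prime factors vanish in `κ`. -/
def Good (κ : Type v) [Field κ] (c : ℕ) : Prop := 1 ≤ c ∧ ∀ q : ℕ, q.Prime → q ∣ c → (q : κ) = 0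

variable {κ : Type v} [Field κ]

theorem good_one : Good κ 1 := ⟨le_rfl, fun q hq h => absurd (Nat.dvd_one.mp h) hq.one_lt.ne'⟩

theorem Good.mul {a b : ℕ} (ha : Good κ a) (hb : Good κ b) : Good κ (a * b) := by
  refine ⟨Nat.mul_pos ha.1 hb.1, fun q hq h => ?_⟩
  rcases (hq.dvd_mul).mp h with h | h
  exacts [ha.2 q hq h, hb.2 q hq h]

variable (κ) in
/-- The saturation of a subgroup of `ℤ` with respect to the good numbers. -/
def sat (H : AddSubgroup ℤ) : AddSubgroup ℤ where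
  carrier := {n | ∃ c : ℕ, Good κ c ∧ (c : ℤ) * n ∈ H}
  zero_mem' := ⟨1, good_one, by simp⟩
  add_mem' := by
    rintro a b ⟨c, hc, h⟩ ⟨c', hc', h'⟩
    refine ⟨c * c', hc.mul hc', ?_⟩
    have e : ((c * c' : ℕ) : ℤ) * (a + b) = (c' : ℤ) * ((c : ℤ) * a) + (c : ℤ) * ((c' : ℤ) * b) := by
      push_cast; ring
    rw [e]
    exact H.add_mem (by simpa [zsmul_eq_mul] using H.zsmul_mem h (c' : ℤ))
      (by simpa [zsmul_eq_mul] using H.zsmul_mem h' (c : ℤ))
  neg_mem' := by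
    rintro a ⟨c, hc, h⟩
    exact ⟨c, hc, by rw [mul_neg]; exact H.neg_mem h⟩

theorem mem_sat {H : AddSubgroup ℤ} {n : ℤ} :
    n ∈ sat κ H ↔ ∃ c : ℕ, Good κ c ∧ (c : ℤ) * n ∈ H := Iff.rfl

theorem le_sat (H : AddSubgroup ℤ) : H ≤ sat κ H := fun n hn => ⟨1, good_one, by simpa using hn⟩

theorem sat_mono {H H' : AddSubgroup ℤ} (h : H ≤ H') : sat κ H ≤ sat κ H' :=
  fun _ ⟨c, hc, hn⟩ => ⟨c, hc, h hn⟩

theorem mul_mem {H : AddSubgroup ℤ} (a : ℤ) {b : ℤ} (hb : b ∈ H) : a * b ∈ H := by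
  simpa [zsmul_eq_mul] using H.zsmul_mem hb a

/-- The saturation is saturated. -/
theorem mem_sat_of_good_mul {H : AddSubgroup ℤ} {n : ℤ} {c : ℕ} (hc : Good κ c)
    (h : (c : ℤ) * n ∈ sat κ H) : n ∈ sat κ H := by
  obtain ⟨c', hc', h⟩ := h
  refine ⟨c' * c, hc'.mul hc, ?_⟩
  have e : ((c' * c : ℕ) : ℤ) * n = (c' : ℤ) * ((c : ℤ) * n) := by push_cast; ring
  rwa [e]

/-- If for each prime `ℓ ≠ 0` in `κ` some multiple of `n` by a number prime to `ℓ` lies in `sat H`, then so does `n`. -/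
theorem mem_sat_of_forall_prime {H : AddSubgroup ℤ} {n : ℤ}
    (h : ∀ ℓ : ℕ, ℓ.Prime → (ℓ : κ) ≠ 0 → ∃ m : ℕ, ¬ ℓ ∣ m ∧ (m : ℤ) * n ∈ sat κ H) : n ∈ sat κ H := by
  let J : AddSubgroup ℤ := (sat κ H).comap (AddMonoidHom.mulRight n)
  have hJ : ∀ m : ℤ, m ∈ J ↔ m * n ∈ sat κ H := fun m => Iff.rfl
  obtain ⟨g, hg⟩ := Int.subgroup_cyclic J
  have hgJ : (g.natAbs : ℤ) ∈ J := by
    have : g ∈ J := by rw [hg]; exact AddSubgroup.mem_closure_singleton_self g
    rcases Int.natAbs_eq g with h1 | h1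
    · rwa [← h1]
    · have := J.neg_mem this
      rw [h1] at this
      simpa using this
  have hdvd : ∀ m : ℤ, m ∈ J → g ∣ m := by
    intro m hm
    rw [hg, AddSubgroup.mem_closure_singleton] at hm
    obtain ⟨a, rfl⟩ := hm
    exact ⟨a, by rw [zsmul_eq_mul, mul_comm]; simp⟩
  have key : ∀ ℓ : ℕ, ℓ.Prime → (ℓ : κ) ≠ 0 → ¬ ℓ ∣ g.natAbs := by
    intro ℓ hℓ hℓ0 hdiv
    obtain ⟨m, hm, hm'⟩ := h ℓ hℓ hℓ0
    apply hm
    have h1 := hdvd m ((hJ m).mpr hm')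
    have h2 : (ℓ : ℤ) ∣ (m : ℤ) := (Int.natCast_dvd.mpr hdiv).trans h1
    exact_mod_cast h2
  have hex : ∃ ℓ : ℕ, ℓ.Prime ∧ (ℓ : κ) ≠ 0 := by
    by_cases h2 : ((2 : ℕ) : κ) = 0
    · refine ⟨3, Nat.prime_three, fun h3 => ?_⟩
      have : ((3 : ℕ) : κ) = ((2 : ℕ) : κ) + 1 := by push_cast; norm_num
      rw [this, h2, zero_add] at h3
      exact one_ne_zero h3
    · exact ⟨2, Nat.prime_two, h2⟩
  have hgood : Good κ g.natAbs := by
    refine ⟨?_, fun q hq hqg => by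
      by_contra h0
      exact key q hq h0 hqg⟩
    by_contra h0
    obtain ⟨ℓ, hℓ, hℓ0⟩ := hex
    have : g.natAbs = 0 := by omega
    exact key ℓ hℓ hℓ0 (by rw [this]; exact dvd_zero _)
  exact mem_sat_of_good_mul hgood ((hJ _).mp hgJ)

/-! ### Index subgroups -/

variable {k : Type u} [Field k]

/-- The subgroup generated by the degrees of the closed points in `T`. -/
def idxOn {X : Scheme.{u}} (f : X ⟶ Spec (CommRingCat.of k)) (T : Set X) : AddSubgroup ℤ :=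
  AddSubgroup.closure ((fun x : X => (f.residueDegree x : ℤ)) '' {x : X | IsClosed ({x} : Set X) ∧ x ∈ T})

theorem idxOn_mono {X : Scheme.{u}} (f : X ⟶ Spec (CommRingCat.of k)) {T T' : Set X} (h : T ⊆ T') :
    idxOn f T ≤ idxOn f T' :=
  AddSubgroup.closure_mono (Set.image_mono fun _ hx => ⟨hx.1, h hx.2⟩)

theorem idxOn_le {X : Scheme.{u}} (f : X ⟶ Spec (CommRingCat.of k)) (T : Set X) :
    idxOn f T ≤ Curv2.indexSubgroup f :=
  AddSubgroup.closure_mono (Set.image_mono fun _ hx => hx.1)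

theorem idxOn_univ {X : Scheme.{u}} (f : X ⟶ Spec (CommRingCat.of k)) :
    idxOn f Set.univ = Curv2.indexSubgroup f := by
  unfold idxOn Curv2.indexSubgroup
  simp

/-- Push forward of degrees along a closed map. -/
theorem indexSubgroup_le_idxOn {X Y : Scheme.{u}} (g : Y ⟶ X) (hg : IsClosedMap g)
    (f : X ⟶ Spec (CommRingCat.of k)) (T : Set X) (hT : Set.range g ⊆ T) :
    Curv2.indexSubgroup (g ≫ f) ≤ idxOn f T := by
  refine (AddSubgroup.closure_le _).mpr ?_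
  rintro _ ⟨y, hy, rfl⟩
  have h1 : ((g ≫ f).residueDegree y : ℤ) = (g.residueDegree y : ℤ) * (f.residueDegree (g y) : ℤ) := by
    rw [Groth.Agent.CycB.Push.residueDegree_comp]
    push_cast
    ring
  change ((g ≫ f).residueDegree y : ℤ) ∈ _
  rw [h1]
  refine mul_mem _ (AddSubgroup.subset_closure ⟨g y, ⟨?_, hT ⟨y, rfl⟩⟩, rfl⟩)
  have := hg _ (show IsClosed ({y} : Set Y) from hy)
  rwa [Set.image_singleton] at this

end K753.IdxSat
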