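import Groth.Agent.VarietyA.DegRank
import Groth.Agent.Variety.K753.Sat
import Groth.Agent.Variety.K424.PushLenZ
import Groth.Agent.KumFam.K753.PointRes
import Groth.Agent.S1525
import Groth.Agent.S0037
import Groth.Agent.S0485

/-!
# Euler characteristics modulo torsion sheaves on an integral proper scheme
-/

set_option autoImplicit false
universe u

open CategoryTheory CategoryTheory.Limits AlgebraicGeometry TopologicalSpace Opposite

namespace K753.EulerRk

open Groth.Agent Groth.Agent.VarietyA.DegRank Groth.Agent.Ega3B.Devissage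
open Groth.Agent.VarietyB.ResMap Groth.Agent.VarietyB.FibreGeneric
open K424.TrdMap K424.PushLenZ

variable (k : Type u) [Field k]

section

variable {Z : Scheme.{u}} [Z.Over (Spec (CommRingCat.of k))] [IsIntegral Z]
  [IsProper (Z ↘ (Spec (CommRingCat.of k)))]

/-- Modulo a subgroup containing the Euler characteristics of torsion coherent modules, `χ(F) ≡ rk(F) χ(O_Z)`. -/
theorem euler_sub_rk_mem (H : AddSubgroup ℤ)
    (htors : ∀ M : Z.Modules, Coh.IsCoh M → genericPoint Z ∉ CohB1.support M → Curv2.euler k Z M ∈ H)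
    (F : Z.Modules) (hF : Coh.IsCoh F) :
    Curv2.euler k Z F - (rk F : ℤ) * Curv2.euler k Z (Coh.structureModule Z) ∈ H := by
  have : IsNoetherian Z :=
    Groth.Agent.VarietyA.GlobGen.isNoetherian_of_finiteType (Z ↘ (Spec (CommRingCat.of k)))
  have hO : Coh.IsCoh (Coh.structureModule Z) := Groth.Agent.Fdesc.StructMod.isCoh_structureModule Z
  refine one_step Set.univ (fun F => Curv2.euler k Z F -
      (rk F : ℤ) * Curv2.euler k Z (Coh.structureModule Z) ∈ H) ?_ (genericPoint Z)
      (fun z hz _ => (hz.antisymm (genericPoint_specializes z)).eq) ?_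
      (Coh.structureModule Z) hO (Set.subset_univ _) ?_ ?_ F hF (Set.subset_univ _)
  · intro S hS h₁ h₂ h₃ _
    have e2 := Groth.Agent.S1524.result k Z S hS h₁ h₂ h₃
    have e3 : (rk S.X₂ : ℤ) = rk S.X₁ + rk S.X₃ := by
      rw [rk_add S hS h₂]
      push_cast
      rfl
    have e4 : Curv2.euler k Z S.X₂ - (rk S.X₂ : ℤ) * Curv2.euler k Z (Coh.structureModule Z) =
        (Curv2.euler k Z S.X₁ - (rk S.X₁ : ℤ) * Curv2.euler k Z (Coh.structureModule Z)) +
        (Curv2.euler k Z S.X₃ - (rk S.X₃ : ℤ) * Curv2.euler k Z (Coh.structureModule Z)) := by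
      rw [e2, e3]; ring
    refine ⟨fun h h' => ?_, fun h h' => ?_, fun h h' => ?_⟩
    · exact (AddSubgroup.add_mem_cancel_left _ h).mp (e4 ▸ h')
    · have := H.add_mem h h'
      dsimp only at this ⊢
      rwa [e4]
    · exact (AddSubgroup.add_mem_cancel_right _ h').mp (e4 ▸ h)
  · intro M hM _ hξ
    rw [rk_eq_zero M hξ]
    simpa using htors M hM hξ
  · rw [rk_structureModule]
    simp
  · rw [← LinearEquiv.isSimpleModule_iff (Groth.Agent.Fdesc.StructMod.stalkEquiv (genericPoint Z)),
      isSimpleModule_self_iff_isUnit]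
    exact ⟨inferInstance, fun x hx => isUnit_iff_ne_zero.mpr hx⟩

end

section

variable {Y Z : Scheme.{u}} [Y.Over (Spec (CommRingCat.of k))] [Z.Over (Spec (CommRingCat.of k))]
  [IsIntegral Y] [IsIntegral Z] [IsProper (Y ↘ (Spec (CommRingCat.of k)))]
  [IsProper (Z ↘ (Spec (CommRingCat.of k)))]

/-- Leray: `χ(O_Y) ≡ m χ(O_Z)` for a generically finite map of degree `m`. -/
theorem euler_sub_degree_mem (g : Y ⟶ Z)
    (hg : g ≫ (Z ↘ (Spec (CommRingCat.of k))) = Y ↘ (Spec (CommRingCat.of k)))
    (hgen : g (genericPoint Y) = genericPoint Z) (hdeg : g.residueDegree (genericPoint Y) ≠ 0)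
    (H : AddSubgroup ℤ)
    (htors : ∀ M : Z.Modules, Coh.IsCoh M → genericPoint Z ∉ CohB1.support M → Curv2.euler k Z M ∈ H) :
    Curv2.euler k Y (Coh.structureModule Y) -
      (g.residueDegree (genericPoint Y) : ℤ) * Curv2.euler k Z (Coh.structureModule Z) ∈ H := by
  have hprop : IsProper (g ≫ (Z ↘ (Spec (CommRingCat.of k)))) := by rw [hg]; infer_instance
  have hgp : IsProper g := IsProper.of_comp g (Z ↘ (Spec (CommRingCat.of k)))
  have : IsLocallyNoetherian Z :=
    LocallyOfFiniteType.isLocallyNoetherian (Z ↘ (Spec (CommRingCat.of k)))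
  have : EnoughInjectives Y.Modules := Groth.Agent.S0485.result _ Y.ringCatSheaf
  have hO : Coh.IsCoh (Coh.structureModule Y) := Groth.Agent.Fdesc.StructMod.isCoh_structureModule Y
  -- dimensions
  obtain ⟨d, hd⟩ := exists_trd_eq k Y (genericPoint Y)
  have hd1 : topologicalKrullDim Y = d := (dim_eq_iff k Y d).mpr hd
  have hd2 : topologicalKrullDim (closure ({g (genericPoint Y)} : Set Z)) = (d : WithBot ℕ∞) := by
    rw [dim_closure_eq_iff k Z, ← trd_eq_of_residueDegree_ne_zero k g hg _ hdeg, hd]
  have hfib := eq_genericPoint_of_map_eq k g hg d hd1 hd2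
  -- the fibre over the generic point is finite
  have hfin : (g.base ⁻¹' {genericPoint Z}).Finite := by
    refine (Set.finite_singleton (genericPoint Y)).subset fun y hy => ?_
    exact hfib y (by rw [hgen]; exact hy)
  have hR : ∀ i, Coh.IsCoh ((Coh.Rpush g i).obj (Coh.structureModule Y)) := fun i => S0036.result g _ hO i
  have hpos : ∀ i, i ≠ 0 → Curv2.euler k Z ((Coh.Rpush g i).obj (Coh.structureModule Y)) ∈ H := by
    intro i hi
    refine htors _ (hR i) ?_
    intro h
    exact h (K753.PointRes.subsingleton_stalk g _ i _ (S0037.result g _ hfin _ hO i (Nat.pos_of_ne_zero hi)))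
  have hzero : Curv2.euler k Z ((Coh.Rpush g 0).obj (Coh.structureModule Y)) -
      (g.residueDegree (genericPoint Y) : ℤ) * Curv2.euler k Z (Coh.structureModule Z) ∈ H := by
    have h1 := euler_sub_rk_mem k H htors _ (hR 0)
    have h2 : rk ((Coh.Rpush g 0).obj (Coh.structureModule Y)) = g.residueDegree (genericPoint Y) := by
      rw [rk_iso ((rpushZero g).app (Coh.structureModule Y))]
      have h3 := length_push k g hg d hd1 hd2
      rw [hgen] at h3
      rw [rk]
      let _ : Field (Z.presheaf.stalk (genericPoint Z)) := inferInstanceAs (Field Z.functionField)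
      have hcoh : Coh.IsCoh ((Scheme.Modules.pushforward g).obj (Coh.structureModule Y)) :=
        Ega3B.DevQC.isCoh_of_iso ((rpushZero g).app (Coh.structureModule Y)) (hR 0)
      have h4 := isNoetherian_stalk hcoh (genericPoint Z)
      have h5 := Module.length_eq_finrank (Z.presheaf.stalk (genericPoint Z))
        (((Scheme.Modules.pushforward g).obj (Coh.structureModule Y)).presheaf.stalk (genericPoint Z))
      rw [h3] at h5
      exact_mod_cast h5.symm
    rw [h2] at h1
    exact h1
  -- vanishing of the higher direct images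
  have cZ : CompactSpace Z := by
    have := (inferInstance : QuasiCompact (Z ↘ (Spec (CommRingCat.of k))))
    exact (quasiCompact_iff_compactSpace (Z ↘ (Spec (CommRingCat.of k)))).mp this
  obtain ⟨N₀, hN₀⟩ := S0031.result g
  have hvan : ∀ i, N₀ ≤ i → IsZero ((Coh.Rpush g i).obj (Coh.structureModule Y)) :=
    fun i hi => (Ega4B.RpushCompare.isZero_rpush_iff g _ i).mpr (hN₀ _ hO.1 i hi)
  have hL := S1525.result k Z Y g hg (Coh.structureModule Y) hO
  rw [hL, finsum_eq_sum_of_support_subset (s := Finset.range (N₀ + 1)), Finset.sum_range_succ', pow_zero, one_mul,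
    add_sub_assoc]
  · refine H.add_mem (H.sum_mem fun i _ => ?_) hzero
    exact K753.IdxSat.mul_mem _ (hpos _ (Nat.succ_ne_zero i))
  · intro n hn
    rw [Finset.coe_range, Set.mem_Iio]
    by_contra h
    exact hn (by
      change (-1 : ℤ) ^ n * Curv2.euler k Z _ = 0
      rw [VarietyA.LerayEuler.euler_eq_zero_of_isZero k Z (hvan n (by omega)), mul_zero])

end

end K753.EulerRk
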