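import Groth.Agent.Sga7.H132.ProjPts
import Groth.Agent.KumFam.K753.PointRes
import Groth.Agent.QsChow.K934.PtNorm
import Groth.Agent.Variety.K753.Sat
import Groth.Agent.CycB.DivNat

/-!
# Closed points of projective hypersurfaces and zeros of forms in finite extensions
-/

set_option autoImplicit false
universe u

open CategoryTheory CategoryTheory.Limits AlgebraicGeometry TopologicalSpace Opposite

namespace K753.HypPt

open Groth.Agent K753.IdxSat Groth.Agent.Sga5.ProjChart Groth.Agent.Sga7.H132.ProjPts

/-- The subgroup generated by the degrees of the finite extensions in which `F` has a nontrivial zero. -/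
def zdeg (K : Type u) [Field K] {n : ℕ} (F : MvPolynomial (Fin (n + 1)) K) : AddSubgroup ℤ :=
  AddSubgroup.closure {m : ℤ | ∃ (L : Type u) (_ : Field L) (_ : Algebra K L),
        FiniteDimensional K L ∧ m = (Module.finrank K L : ℤ) ∧
        ∃ x : Fin (n + 1) → L, x ≠ 0 ∧ MvPolynomial.aeval x F = 0}

/-- The value of `F / X_i^d` in the chart. -/
theorem val_eq (n : ℕ) (K : Type u) [CommRing K] (i : Fin (n + 1)) {d : ℕ} (F : MvPolynomial (Fin (n + 1)) K)
    (hF : F.IsHomogeneous d) :
    HomogeneousLocalization.Away.isLocalizationElem (X_mem n K i) (hF : F ∈ CohB1.polyGrading n K d) =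
      MvPolynomial.eval₂ (chartC n K i) (coord n K i) F := by
  have h1 := val_ofPoly_dehom n K i d F hF
  have h2 : MvPolynomial.eval₂Hom (chartC n K i) (coord n K i) = (ofPoly n K i).comp (dehom n K i) := by
    apply MvPolynomial.ringHom_ext
    · intro r
      simp [ofPoly]
    · intro j
      rcases Fin.eq_self_or_eq_succAbove i j with rfl | ⟨j, rfl⟩
      · simp [coord_self]
      · simp [ofPoly]
  have h3 : MvPolynomial.eval₂ (chartC n K i) (coord n K i) F = ofPoly n K i (dehom n K i F) :=
    RingHom.congr_fun h2 F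
  rw [h3]
  apply HomogeneousLocalization.val_injective
  have hu : IsUnit (aM n K i (MvPolynomial.X i ^ d)) := by
    rw [map_pow]
    exact (IsLocalization.Away.algebraMap_isUnit (MvPolynomial.X i)).pow d
  refine hu.mul_right_cancel ?_
  rw [h1, HomogeneousLocalization.Away.val_mk, ← Localization.mk_one_eq_algebraMap, Localization.mk_mul,
    ← Localization.mk_one_eq_algebraMap, Localization.mk_eq_mk_iff, Localization.r_iff_exists]
  refine ⟨1, ?_⟩
  simp
  ring

theorem residueDegree_mem (n : ℕ) (k : Type u) [Field k] {d : ℕ} (F : MvPolynomial (Fin (n + 1)) k)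
    (hF : F.IsHomogeneous d) (hd : 0 < d) (x : CohB1.ProjSpace n k) (hx : IsClosed ({x} : Set (CohB1.ProjSpace n k)))
    (hxF : x ∉ Proj.basicOpen (CohB1.polyGrading n k) F) :
    ((CohB1.ProjSpace.toSpec n k).residueDegree x : ℤ) ∈ zdeg k F := by
  let P := CohB1.ProjSpace n k
  let L := P.residueField x
  obtain ⟨i, χ, hχ⟩ := exists_chart_pt (n := n) (K := k) (L := L) (P.fromSpecResidueField x)
  let φ : k →+* L := χ.comp (chartC n k i)
  let _ : Algebra k L := φ.toAlgebra
  have hpt : P.fromSpecResidueField x (IsLocalRing.closedPoint L) = x := Scheme.fromSpecResidueField_apply x _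
  have hsp : P.fromSpecResidueField x ≫ CohB1.ProjSpace.toSpec n k =
      Spec.map (CommRingCat.ofHom (algebraMap k L)) := by
    rw [← hχ, Category.assoc, chart_toSpec, ← Spec.map_comp]
    rfl
  have hdeg : (CohB1.ProjSpace.toSpec n k).residueDegree x = Module.finrank k L := by
    have h1 := CycB.Push.residueDegree_comp (P.fromSpecResidueField x) (CohB1.ProjSpace.toSpec n k)
      (IsLocalRing.closedPoint L)
    rw [CycB.DivNat.residueDegree_eq_one (P.fromSpecResidueField x), mul_one, hsp, hpt] at h1
    rw [← h1]
    exact _root_.K934.PtNorm.residueDegree_spec k L _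
  have : LocallyOfFiniteType (CohB1.ProjSpace.toSpec n k) := inferInstance
  have hpos := K753.PointRes.residueDegree_pos (CohB1.ProjSpace.toSpec n k) x hx
  rw [hdeg] at hpos ⊢
  refine AddSubgroup.subset_closure ⟨L, inferInstance, inferInstance, Module.finite_of_finrank_pos hpos, rfl,
    fun l => χ (coord n k i l), ?_, ?_⟩
  · intro h0
    have := congrFun h0 i
    rw [coord_self, map_one] at this
    exact one_ne_zero this
  · have h1 : MvPolynomial.aeval (fun l => χ (coord n k i l)) F =
        χ (MvPolynomial.eval₂ (chartC n k i) (coord n k i) F) := by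
      rw [MvPolynomial.aeval_def, MvPolynomial.hom_eval₂]
      rfl
    rw [h1, ← val_eq n k i F hF]
    by_contra hne
    apply hxF
    have h2 : chart n k i ⁻¹ᵁ (Proj.basicOpen (CohB1.polyGrading n k) F) = _ :=
      Proj.awayι_preimage_basicOpen (CohB1.polyGrading n k) (X_mem n k i) one_pos
        (show F ∈ CohB1.polyGrading n k d from hF) hd
    have h3 : Spec.map (CommRingCat.ofHom χ) (IsLocalRing.closedPoint L) ∈
        chart n k i ⁻¹ᵁ (Proj.basicOpen (CohB1.polyGrading n k) F) := by
      rw [h2]
      intro hmem
      apply hne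
      have h4 : χ (HomogeneousLocalization.Away.isLocalizationElem (X_mem n k i)
        (show F ∈ CohB1.polyGrading n k d from hF)) ∈ IsLocalRing.maximalIdeal L := hmem
      rwa [IsLocalRing.maximalIdeal_eq_bot, Ideal.mem_bot] at h4
    have h5 : chart n k i (Spec.map (CommRingCat.ofHom χ) (IsLocalRing.closedPoint L)) = x := by
      rw [← Scheme.Hom.comp_apply, hχ, hpt]
    rw [← h5]
    exact h3

end K753.HypPt
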